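import Mathlib
import Groth.Agent.FiniteCompleteLib.Basic
import Groth.Agent.DecompCplLib.Completion

set_option autoImplicit false
universe u

namespace Groth.Agent.CompositumCplLib

open IsLocalRing

variable {R Ω : Type u} [CommRing R] [Field Ω] [Algebra R Ω]

/-- `A` is the local ring of the integral closure at `𝔪`, as a subalgebra. -/
def IsLoc (𝔪 : Ideal ↥(integralClosure R Ω)) (A : Subalgebra R Ω) : Prop :=
  ∀ z : Ω, z ∈ A ↔ ∃ a b : ↥(integralClosure R Ω), b ∉ 𝔪 ∧ z * (b : Ω) = (a : Ω)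

variable {𝔪 : Ideal ↥(integralClosure R Ω)} [𝔪.IsPrime] {A : Subalgebra R Ω}

theorem IsLoc.le (hA : IsLoc 𝔪 A) : integralClosure R Ω ≤ A := fun z hz =>
  (hA z).2 ⟨⟨z, hz⟩, 1, fun h => Ideal.IsPrime.ne_top ‹_› ((Ideal.eq_top_iff_one _).2 h), by simp⟩

theorem IsLoc.isUnit_iff (hA : IsLoc 𝔪 A) (b : ↥(integralClosure R Ω)) :
    IsUnit (Subalgebra.inclusion hA.le b) ↔ b ∉ 𝔪 := by
  constructor
  · intro h hb
    obtain ⟨w, hw⟩ := h.exists_right_inv
    obtain ⟨a, c, hc, hac⟩ := (hA (w : Ω)).1 w.2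
    have h1 : (b : Ω) * (w : Ω) = 1 := congrArg Subtype.val hw
    have h2 : c = b * a := Subtype.ext (by
      change (c : Ω) = (b : Ω) * (a : Ω)
      rw [← hac, ← mul_assoc, h1, one_mul])
    exact hc (h2 ▸ Ideal.mul_mem_right _ _ hb)
  · intro hb
    have hne : (b : Ω) ≠ 0 := fun h => hb (by
      rw [show b = 0 from Subtype.ext h]; exact zero_mem _)
    refine IsUnit.of_mul_eq_one
      (⟨(b : Ω)⁻¹, (hA _).2 ⟨1, b, hb, by simpa using inv_mul_cancel₀ hne⟩⟩ : A) ?_
    exact Subtype.ext (mul_inv_cancel₀ hne)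

theorem IsLoc.isLocalization (hA : IsLoc 𝔪 A) :
    letI := (Subalgebra.inclusion hA.le).toRingHom.toAlgebra
    IsLocalization.AtPrime A 𝔪 := by
  letI := (Subalgebra.inclusion hA.le).toRingHom.toAlgebra
  refine (isLocalization_iff ..).2 ⟨?_, ?_, ?_⟩
  · intro y
    exact (hA.isUnit_iff _).2 y.2
  · intro z
    obtain ⟨a, b, hb, hz⟩ := (hA (z : Ω)).1 z.2
    exact ⟨⟨a, b, hb⟩, Subtype.ext hz⟩
  · intro x y h
    have h' : x = y := Subtype.ext (congrArg (fun w : A => (w : Ω)) h :)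
    exact ⟨1, by rw [h']⟩

variable [IsLocalRing A]

theorem IsLoc.mem_maximal (hA : IsLoc 𝔪 A) (b : ↥(integralClosure R Ω)) :
    Subalgebra.inclusion hA.le b ∈ maximalIdeal A ↔ b ∈ 𝔪 := by
  rw [mem_maximalIdeal, mem_nonunits_iff, hA.isUnit_iff, not_not]

theorem IsLoc.isNoetherianRing (hA : IsLoc 𝔪 A) [IsNoetherianRing ↥(integralClosure R Ω)] : IsNoetherianRing A := by
  letI := (Subalgebra.inclusion hA.le).toRingHom.toAlgebra
  haveI := hA.isLocalization
  exact IsLocalization.isNoetherianRing 𝔪.primeCompl A inferInstance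

theorem IsLoc.exists_approx [𝔪.IsMaximal] (hA : IsLoc 𝔪 A) (k : ℕ) (z : A) :
    ∃ β : ↥(integralClosure R Ω), z - Subalgebra.inclusion hA.le β ∈ maximalIdeal A ^ k := by
  obtain ⟨a, b, hb, hz⟩ := (hA (z : Ω)).1 z.2
  have htop : Ideal.span {b} ⊔ 𝔪 = ⊤ :=
    ‹𝔪.IsMaximal›.out.2 _ (lt_of_le_of_ne le_sup_right fun h => hb
      (h ▸ Ideal.mem_sup_left (Ideal.mem_span_singleton_self b)))
  have htop' : Ideal.span {b} ⊔ 𝔪 ^ k = ⊤ := Ideal.sup_pow_eq_top htop
  obtain ⟨u, hu, v, hv, huv⟩ := Submodule.mem_sup.1 ((Ideal.eq_top_iff_one _).1 htop')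
  obtain ⟨h, rfl⟩ := Ideal.mem_span_singleton.1 hu
  refine ⟨a * h, ?_⟩
  have he : z * Subalgebra.inclusion hA.le b = Subalgebra.inclusion hA.le a := Subtype.ext hz
  have e : z - Subalgebra.inclusion hA.le (a * h) = z * Subalgebra.inclusion hA.le v := by
    rw [map_mul, ← he]
    conv_lhs => arg 1; rw [← mul_one z, ← map_one (Subalgebra.inclusion hA.le), ← huv]
    rw [map_add, map_mul]; ring
  rw [e]
  refine Ideal.mul_mem_left _ _ ?_
  have := Ideal.mem_map_of_mem (Subalgebra.inclusion hA.le).toRingHom hv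
  rw [Ideal.map_pow] at this
  exact Ideal.pow_right_mono (Ideal.map_le_iff_le_comap.2 fun x hx => Ideal.mem_comap.2 ((hA.mem_maximal x).2 hx)) k this

variable [IsLocalRing R]

theorem IsLoc.algebraMap_mem [𝔪.IsMaximal] (hA : IsLoc 𝔪 A) {r : R} (hr : r ∈ maximalIdeal R) :
    algebraMap R A r ∈ maximalIdeal A := by
  haveI : (𝔪.comap (algebraMap R ↥(integralClosure R Ω))).IsMaximal :=
    Ideal.isMaximal_comap_of_isIntegral_of_isMaximal 𝔪
  rw [← IsLocalRing.eq_maximalIdeal this, Ideal.mem_comap] at hr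
  have := (hA.mem_maximal _).2 hr
  rwa [AlgHom.commutes] at this

theorem IsLoc.exists_pow_le [𝔪.IsMaximal] (hA : IsLoc 𝔪 A) [IsNoetherianRing A] :
    ∃ k, maximalIdeal A ^ k ≤ (maximalIdeal R).map (algebraMap R A) := by
  refine Ideal.exists_pow_le_of_le_radical_of_fg ?_ (maximalIdeal A).fg_of_isNoetherianRing
  rw [Ideal.radical_eq_sInf]
  refine le_sInf ?_
  rintro p ⟨hp, hpp⟩
  haveI := hpp
  let q := p.comap (Subalgebra.inclusion hA.le).toRingHom
  haveI : q.IsPrime := hpp.comap _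
  have hqR : maximalIdeal R ≤ q.comap (algebraMap R ↥(integralClosure R Ω)) := fun r hr => by
    change Subalgebra.inclusion hA.le (algebraMap R _ r) ∈ p
    rw [AlgHom.commutes]; exact hp (Ideal.mem_map_of_mem _ hr)
  haveI : (q.comap (algebraMap R ↥(integralClosure R Ω))).IsMaximal := by
    rw [← (maximalIdeal.isMaximal R).eq_of_le (Ideal.IsPrime.ne_top (hpp.comap _ |>.comap _)) hqR]
    exact maximalIdeal.isMaximal R
  haveI hqmax : q.IsMaximal := Ideal.isMaximal_of_isIntegral_of_isMaximal_comap q this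
  have hq : q = 𝔪 := hqmax.eq_of_le (Ideal.IsPrime.ne_top ‹_›) fun x hx => by
    rw [← hA.mem_maximal]
    exact le_maximalIdeal hpp.ne_top hx
  intro z hz
  obtain ⟨a, b, hb, he⟩ := (hA (z : Ω)).1 z.2
  have he' : z * Subalgebra.inclusion hA.le b = Subalgebra.inclusion hA.le a := Subtype.ext he
  have ha : a ∈ q := by
    rw [hq, ← hA.mem_maximal, ← he']
    exact Ideal.mul_mem_right _ _ hz
  have ha' : z * Subalgebra.inclusion hA.le b ∈ p := he' ▸ ha
  exact (hpp.mem_or_mem ha').resolve_right fun h => hb (hq ▸ h)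

/-- The completion of `A` is spanned over the completion of a local ring `T` between by the integral closure. -/
theorem IsLoc.exists_span [𝔪.IsMaximal] (hA : IsLoc 𝔪 A) [Module.Finite R ↥(integralClosure R Ω)]
    [IsNoetherianRing R] [IsNoetherianRing A]
    {T : Type u} [CommRing T] [IsLocalRing T] [IsNoetherianRing T] (j : R →+* T) (f : T →+* A)
    (hj : f.comp j = algebraMap R A) [IsLocalHom f]
    (φ : AdicCompletion (maximalIdeal T) T →+* AdicCompletion (maximalIdeal A) A)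
    (hφ : ∀ t, φ (algebraMap T _ t) = algebraMap A _ (f t)) :
    ∃ (n : ℕ) (β : Fin n → ↥(integralClosure R Ω)), ∀ x, ∃ c : Fin n → AdicCompletion (maximalIdeal T) T,
      x = ∑ i, φ (c i) * algebraMap A _ (Subalgebra.inclusion hA.le (β i)) := by
  let TH := AdicCompletion (maximalIdeal T) T
  let AH := AdicCompletion (maximalIdeal A) A
  obtain ⟨n, β, hβ⟩ := Module.Finite.exists_fin (R := R) (M := ↥(integralClosure R Ω))
  refine ⟨n, β, ?_⟩
  letI : Algebra TH AH := φ.toAlgebra
  let ψ : (Fin n → TH) →ₗ[TH] AH :=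
    Fintype.linearCombination TH (fun i => algebraMap A AH (Subalgebra.inclusion hA.le (β i)))
  suffices h : Function.Surjective ψ by
    intro x
    obtain ⟨c, hc⟩ := h x
    exact ⟨c, by rw [← hc]; simp [ψ, Fintype.linearCombination_apply, Algebra.smul_def]; rfl⟩
  have hmax : (maximalIdeal TH).map φ ≤ maximalIdeal AH := by
    rw [AdicCompletion.maximalIdeal_eq_map, Ideal.map_map, Ideal.map_le_iff_le_comap]
    intro t ht
    rw [Ideal.mem_comap, RingHom.comp_apply, hφ, ← pow_one (maximalIdeal AH),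
      DecompCplLib.algebraMap_mem_pow_iff, pow_one]
    exact map_nonunit f t ht
  haveI : IsPrecomplete (maximalIdeal TH) (Fin n → TH) :=
    (FiniteCompleteLib.isAdicComplete_of_finite (maximalIdeal TH) (Fin n → TH)).toIsPrecomplete
  haveI : IsHausdorff (maximalIdeal TH) AH := ⟨fun x hx => DecompCplLib.eq_of_forall_sub_mem fun k => by
    have := hx k
    rw [SModEq.zero, Ideal.smul_top_eq_map, Submodule.restrictScalars_mem, RingHom.algebraMap_toAlgebra,
      Ideal.map_pow] at this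
    rw [sub_zero]
    exact Ideal.pow_right_mono hmax k this⟩
  refine surjective_of_mkQ_comp_surjective (I := maximalIdeal TH) ?_
  intro y
  obtain ⟨x, rfl⟩ := Submodule.mkQ_surjective _ y
  obtain ⟨k, hk⟩ := hA.exists_pow_le (R := R)
  obtain ⟨a, ha⟩ := DecompCplLib.exists_approx k x
  obtain ⟨b, hb⟩ := hA.exists_approx k a
  have hmem : b ∈ Submodule.span R (Set.range β) := by rw [hβ]; trivial
  obtain ⟨c, hc⟩ := (Submodule.mem_span_range_iff_exists_fun R).1 hmem
  refine ⟨fun i => algebraMap T TH (j (c i)), ?_⟩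
  have hψ : ψ (fun i => algebraMap T TH (j (c i))) = algebraMap A AH (Subalgebra.inclusion hA.le b) := by
    rw [← hc, map_sum, map_sum]
    simp only [ψ, Fintype.linearCombination_apply, Algebra.smul_def, RingHom.algebraMap_toAlgebra, hφ]
    refine Finset.sum_congr rfl fun i _ => ?_
    rw [map_mul, map_mul, AlgHom.commutes, ← hj, RingHom.comp_apply, hφ]
  rw [LinearMap.comp_apply, Submodule.mkQ_apply, Submodule.mkQ_apply, Submodule.Quotient.eq, hψ,
    Ideal.smul_top_eq_map, Submodule.restrictScalars_mem, RingHom.algebraMap_toAlgebra]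
  have h1 : (maximalIdeal AH) ^ k ≤ (maximalIdeal TH).map φ := by
    rw [DecompCplLib.pow_eq, AdicCompletion.maximalIdeal_eq_map, Ideal.map_map]
    refine (Ideal.map_mono hk).trans ?_
    rw [Ideal.map_map, Ideal.map_le_iff_le_comap]
    intro r hr
    rw [Ideal.mem_comap, RingHom.comp_apply, ← hj, RingHom.comp_apply, ← hφ]
    refine Ideal.mem_map_of_mem (φ.comp (algebraMap T TH)) ?_
    refine mem_maximalIdeal _ |>.2 fun hu => ?_
    have h2 := hu.map f
    rw [← RingHom.comp_apply, hj] at h2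
    exact (mem_maximalIdeal _).1 (hA.algebraMap_mem hr) h2
  refine h1 ?_
  have e : algebraMap A AH (Subalgebra.inclusion hA.le b) - x =
      -(x - algebraMap A AH a) - algebraMap A AH (a - Subalgebra.inclusion hA.le b) := by
    rw [map_sub]; ring
  rw [e]
  exact sub_mem (neg_mem ha) ((DecompCplLib.algebraMap_mem_pow_iff k _).2 hb)

end Groth.Agent.CompositumCplLib
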