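import Groth.Agent.CompositumCplLib.Main
import Groth.Agent.NagataLib.Reduced
import Groth.Agent.S7125

set_option autoImplicit false
universe u

namespace Groth.Agent.CompositumCplLib

open IsLocalRing

variable {R K L Ω : Type u} [CommRing R] [IsDomain R] [IsIntegrallyClosed R] [IsNoetherianRing R]
  [Field K] [Field L] [Field Ω] [Algebra R K] [IsFractionRing R K]
  [Algebra K L] [FiniteDimensional K L] [Algebra.IsSeparable K L]
  [Algebra R L] [Algebra R Ω] [Algebra L Ω] [IsScalarTower R K L] [IsScalarTower R L Ω]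
  {𝔪 : Ideal ↥(integralClosure R Ω)} {A : Subalgebra R Ω}

/-- The inclusion of integral closures. -/
def inclClosure : ↥(integralClosure R L) →ₐ[R] ↥(integralClosure R Ω) :=
  ((IsScalarTower.toAlgHom R L Ω).comp (integralClosure R L).val).codRestrict (integralClosure R Ω)
    fun x => x.2.map (IsScalarTower.toAlgHom R L Ω)

/-- In a normal Noetherian domain a fraction without poles at the primes below `n` is integral at `n`. -/
theorem exists_eq_of_no_pole {D : Type u} [CommRing D] [IsDomain D] [IsNoetherianRing D] [IsIntegrallyClosed D]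
    (n : Ideal D) [n.IsPrime] {x y : D} (hy : y ≠ 0)
    (h : ∀ (p : Ideal D) [p.IsPrime] (u v : D), p ≤ n → v ∉ p → u ∈ p → x * u ≠ y * v) :
    ∃ a b : D, b ∉ n ∧ x * b = y * a := by
  let Dn := Localization.AtPrime n
  haveI : IsIntegrallyClosed Dn :=
    isIntegrallyClosed_of_isLocalization Dn n.primeCompl n.primeCompl_le_nonZeroDivisors
  haveI : IsNoetherianRing Dn := IsLocalization.isNoetherianRing n.primeCompl Dn inferInstance
  have hinj : Function.Injective (algebraMap D Dn) := IsLocalization.injective Dn n.primeCompl_le_nonZeroDivisors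
  have hdvd : algebraMap D Dn y ∣ algebraMap D Dn x := by
    refine Groth.Agent.S7125.dvd_of_forall_height_one ((map_ne_zero_iff _ hinj).2 hy) fun p' _ hp' => ?_
    haveI := Groth.Agent.S7125.isDVR_of_height_one p' hp'
    haveI : ValuationRing (Localization.AtPrime p') := inferInstance
    have hinj' : Function.Injective (algebraMap Dn (Localization.AtPrime p')) :=
      IsLocalization.injective (Localization.AtPrime p') p'.primeCompl_le_nonZeroDivisors
    rcases (ValuationRing.iff_dvd_total.1 ‹ValuationRing (Localization.AtPrime p')›).total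
      (algebraMap Dn (Localization.AtPrime p') (algebraMap D Dn y))
      (algebraMap Dn (Localization.AtPrime p') (algebraMap D Dn x)) with ⟨w, hw⟩ | ⟨w, hw⟩
    · obtain ⟨⟨u, v⟩, huv⟩ := IsLocalization.surj p'.primeCompl w
      refine ⟨v, v.2, ⟨u, hinj' ?_⟩⟩
      rw [map_mul, map_mul, hw, ← huv]; ring
    · by_cases hwu : IsUnit w
      · obtain ⟨w', hw'⟩ := hwu.exists_left_inv
        obtain ⟨⟨u, v⟩, huv⟩ := IsLocalization.surj p'.primeCompl w'
        refine ⟨v, v.2, ⟨u, hinj' ?_⟩⟩
        rw [map_mul, map_mul, hw, ← huv]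
        linear_combination -(algebraMap Dn (Localization.AtPrime p') (v : Dn) *
          algebraMap Dn (Localization.AtPrime p') (algebraMap D Dn x)) * hw'
      · exfalso
        obtain ⟨⟨u, v⟩, huv⟩ := IsLocalization.surj p'.primeCompl w
        have hu : u ∈ p' := (IsLocalization.AtPrime.to_map_mem_maximal_iff (Localization.AtPrime p') p' u).1
          (huv ▸ Ideal.mul_mem_right _ _ ((mem_maximalIdeal _).2 hwu))
        obtain ⟨⟨u₀, s⟩, hu₀⟩ := IsLocalization.surj n.primeCompl u
        obtain ⟨⟨v₀, t⟩, hv₀⟩ := IsLocalization.surj n.primeCompl (v : Dn)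
        refine h (p'.comap (algebraMap D Dn)) (u₀ * t) (v₀ * s) ?_ ?_ ?_ ?_
        · intro c hc
          by_contra hcn
          exact Ideal.IsPrime.ne_top ‹p'.IsPrime› (Ideal.eq_top_of_isUnit_mem _ hc
            (IsLocalization.map_units Dn (⟨c, hcn⟩ : n.primeCompl)))
        · rw [Ideal.mem_comap, map_mul, ← hv₀, mul_assoc, ← map_mul]
          intro h
          rcases (‹p'.IsPrime›).mem_or_mem h with h | h
          · exact v.2 h
          · exact Ideal.IsPrime.ne_top ‹p'.IsPrime› (Ideal.eq_top_of_isUnit_mem _ h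
              (IsLocalization.map_units Dn (t * s : n.primeCompl)))
        · rw [Ideal.mem_comap, map_mul, ← hu₀]
          exact Ideal.mul_mem_right _ _ (Ideal.mul_mem_right _ _ hu)
        · refine hinj (hinj' ?_)
          simp only [map_mul, ← hu₀, ← hv₀, hw, ← huv]
          ring
  obtain ⟨w, hw⟩ := hdvd
  obtain ⟨⟨a, b⟩, hab⟩ := IsLocalization.surj n.primeCompl w
  exact ⟨a, b, b.2, hinj (by rw [map_mul, map_mul, hw, ← hab]; ring)⟩

include K in
/-- `A ∩ L` is the local ring of the integral closure of `R` in `L`. -/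
theorem isLoc_comap [𝔪.IsPrime] (hA : IsLoc 𝔪 A) :
    IsLoc (𝔪.comap (inclClosure (R := R) (L := L) (Ω := Ω))) (Subalgebra.comap (IsScalarTower.toAlgHom R L Ω) A) := by
  classical
  let C := ↥(integralClosure R L)
  let B := ↥(integralClosure R Ω)
  let ψ : C →ₐ[R] B := inclClosure
  let n := 𝔪.comap ψ
  haveI : n.IsPrime := inferInstanceAs (𝔪.comap ψ).IsPrime
  haveI : Module.Finite R C := integralClosure_finite (R := R) (K := K)
  haveI : IsNoetherianRing C := IsNoetherianRing.of_finite R C
  haveI : IsFractionRing C L := integralClosure.isFractionRing_of_finite_extension K L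
  haveI : IsIntegrallyClosed C := integralClosure.isIntegrallyClosedOfFiniteExtension K
  have hψ : ∀ c : C, ((ψ c : B) : Ω) = algebraMap L Ω (c : L) := fun c => rfl
  intro z
  constructor
  · intro hz
    obtain ⟨a, b, hb, hab⟩ := (hA _).1 hz
    obtain ⟨⟨x, y⟩, hxy⟩ := IsLocalization.surj (nonZeroDivisors C) z
    have hy0 : ((y : C) : L) ≠ 0 := fun h => nonZeroDivisors.coe_ne_zero y (Subtype.ext h)
    have hxy' : z * ((y : C) : L) = (x : L) := hxy
    letI : Algebra C B := ψ.toRingHom.toAlgebra
    haveI : IsScalarTower R C B := .of_algebraMap_eq fun r => (ψ.commutes r).symm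
    haveI : Algebra.IsIntegral C B := ⟨fun w => (Algebra.IsIntegral.isIntegral (R := R) w).tower_top⟩
    haveI : FaithfulSMul C B := (faithfulSMul_iff_algebraMap_injective C B).2 fun c d h =>
      Subtype.ext ((algebraMap L Ω).injective (congrArg Subtype.val h :))
    haveI : 𝔪.LiesOver n := ⟨rfl⟩
    obtain ⟨a', b', hb', h⟩ := exists_eq_of_no_pole (x := x) (y := (y : C)) n (nonZeroDivisors.coe_ne_zero y)
      fun p _ u v hpn hv hu heq => by
        obtain ⟨P, hP𝔪, hP, hPp⟩ := Ideal.exists_ideal_le_liesOver_of_le (R := C) 𝔪 hpn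
        haveI := hP
        have hl : (v : L) = z * (u : L) := by
          refine mul_left_cancel₀ hy0 ?_
          rw [← MulMemClass.coe_mul, ← heq, MulMemClass.coe_mul, ← hxy']; ring
        have e : ψ v * b = a * ψ u := by
          refine Subtype.ext ?_
          rw [MulMemClass.coe_mul, MulMemClass.coe_mul, hψ, hψ, ← hab, hl, map_mul]
          change algebraMap L Ω z * _ * _ = algebraMap L Ω z * _ * _
          ring
        have h1 : ψ v * b ∈ P := e ▸ Ideal.mul_mem_left _ _ ((Ideal.mem_of_liesOver P p _).1 hu)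
        rcases hP.mem_or_mem h1 with h | h
        · exact hv ((Ideal.mem_of_liesOver P p _).2 h)
        · exact hb (hP𝔪 h)
    refine ⟨a', b', hb', mul_left_cancel₀ hy0 ?_⟩
    rw [← MulMemClass.coe_mul, ← h, MulMemClass.coe_mul, ← hxy']; ring
  · rintro ⟨a, b, hb, hab⟩
    refine (hA _).2 ⟨ψ a, ψ b, hb, ?_⟩
    change algebraMap L Ω z * _ = _
    rw [hψ, hψ, ← map_mul, hab]

end Groth.Agent.CompositumCplLib
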