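import Groth.Agent.CompositumCplLib.Basic

set_option autoImplicit false
universe u

namespace Groth.Agent.CompositumCplLib

open IsLocalRing

variable {R K L M Ω : Type u} [CommRing R] [IsDomain R] [Field K] [Field L] [Field M] [Field Ω]
  [Algebra R K] [IsFractionRing R K]
  [Algebra K L] [Algebra K M] [Algebra K Ω] [Algebra L Ω] [Algebra M Ω]
  [IsScalarTower K L Ω] [IsScalarTower K M Ω]

theorem finite_separable [FiniteDimensional K L] [FiniteDimensional K M] [Algebra.IsSeparable K L]
    [Algebra.IsSeparable K M]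
    (hΩ : IntermediateField.adjoin K (Set.range (algebraMap L Ω) ∪ Set.range (algebraMap M Ω)) = ⊤) :
    FiniteDimensional K Ω ∧ Algebra.IsSeparable K Ω := by
  let eL := IsScalarTower.toAlgHom K L Ω
  let eM := IsScalarTower.toAlgHom K M Ω
  haveI : FiniteDimensional K eL.fieldRange :=
    (AlgEquiv.ofInjectiveField eL).toLinearEquiv.finiteDimensional
  haveI : FiniteDimensional K eM.fieldRange :=
    (AlgEquiv.ofInjectiveField eM).toLinearEquiv.finiteDimensional
  haveI : Algebra.IsSeparable K eL.fieldRange :=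
    AlgEquiv.Algebra.isSeparable (AlgEquiv.ofInjectiveField eL)
  haveI : Algebra.IsSeparable K eM.fieldRange :=
    AlgEquiv.Algebra.isSeparable (AlgEquiv.ofInjectiveField eM)
  have htop : eL.fieldRange ⊔ eM.fieldRange = ⊤ := by
    rw [eq_top_iff, ← hΩ, IntermediateField.adjoin_le_iff]
    rintro x (⟨l, rfl⟩ | ⟨m, rfl⟩)
    · exact (le_sup_left : eL.fieldRange ≤ _) ⟨l, rfl⟩
    · exact (le_sup_right : eM.fieldRange ≤ _) ⟨m, rfl⟩
  haveI h1 : FiniteDimensional K ↥(eL.fieldRange ⊔ eM.fieldRange) := IntermediateField.finiteDimensional_sup _ _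
  haveI h2 : Algebra.IsSeparable K ↥(eL.fieldRange ⊔ eM.fieldRange) := inferInstance
  rw [htop] at h1 h2
  exact ⟨IntermediateField.topEquiv.toLinearEquiv.finiteDimensional,
    AlgEquiv.Algebra.isSeparable IntermediateField.topEquiv⟩

variable [Algebra R L] [Algebra R M] [Algebra R Ω] [IsScalarTower R K L] [IsScalarTower R K M] [IsScalarTower R K Ω]
  [IsScalarTower R L Ω] [IsScalarTower R M Ω]

theorem exists_smul_integral {F : Type u} [Field F] [Algebra K F] [Algebra R F] [IsScalarTower R K F]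
    [FiniteDimensional K F] (x : F) : ∃ r : R, r ≠ 0 ∧ IsIntegral R (r • x) := by
  obtain ⟨y, hy⟩ := IsIntegral.exists_multiple_integral_of_isLocalization (nonZeroDivisors R) x
    (Algebra.IsIntegral.isIntegral (R := K) x)
  exact ⟨y, nonZeroDivisors.coe_ne_zero y, hy⟩

variable {𝔪 : Ideal ↥(integralClosure R Ω)} [𝔪.IsPrime] {A : Subalgebra R Ω}

/-- Every element of `Ω` has a multiple in the ring generated by `A ∩ L` and `A ∩ M`. -/
theorem exists_mul_mem_gen [FiniteDimensional K L] [FiniteDimensional K M] [FiniteDimensional K Ω]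
    (hA : IsLoc 𝔪 A)
    (hΩ : IntermediateField.adjoin K (Set.range (algebraMap L Ω) ∪ Set.range (algebraMap M Ω)) = ⊤) (x : Ω) :
    ∃ r : R, r ≠ 0 ∧ r • x ∈ Subring.closure
      ((algebraMap L Ω '' (Subalgebra.comap (IsScalarTower.toAlgHom R L Ω) A : Set L)) ∪
       (algebraMap M Ω '' (Subalgebra.comap (IsScalarTower.toAlgHom R M Ω) A : Set M))) := by
  set G := Subring.closure
      ((algebraMap L Ω '' (Subalgebra.comap (IsScalarTower.toAlgHom R L Ω) A : Set L)) ∪
       (algebraMap M Ω '' (Subalgebra.comap (IsScalarTower.toAlgHom R M Ω) A : Set M))) with hG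
  have hR : ∀ r : R, algebraMap R Ω r ∈ G := fun r =>
    Subring.subset_closure (Or.inl ⟨algebraMap R L r, Subalgebra.algebraMap_mem _ r,
      (IsScalarTower.algebraMap_apply R L Ω r).symm⟩)
  have hx : x ∈ Algebra.adjoin K (Set.range (algebraMap L Ω) ∪ Set.range (algebraMap M Ω)) := by
    rw [← IntermediateField.adjoin_toSubalgebra_of_isAlgebraic fun y _ => Algebra.IsAlgebraic.isAlgebraic y, hΩ]
    trivial
  induction hx using Algebra.adjoin_induction with
  | mem y hy =>
    rcases hy with ⟨l, rfl⟩ | ⟨m, rfl⟩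
    · obtain ⟨r, hr, hl⟩ := exists_smul_integral (K := K) (R := R) l
      refine ⟨r, hr, Subring.subset_closure (Or.inl ⟨r • l, ?_, ?_⟩)⟩
      · exact hA.le (hl.map (IsScalarTower.toAlgHom R L Ω))
      · simp [Algebra.smul_def, ← IsScalarTower.algebraMap_apply]
    · obtain ⟨r, hr, hl⟩ := exists_smul_integral (K := K) (R := R) m
      refine ⟨r, hr, Subring.subset_closure (Or.inr ⟨r • m, ?_, ?_⟩)⟩
      · exact hA.le (hl.map (IsScalarTower.toAlgHom R M Ω))
      · simp [Algebra.smul_def, ← IsScalarTower.algebraMap_apply]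
  | algebraMap c =>
    obtain ⟨⟨a, b⟩, hab⟩ := IsLocalization.surj (nonZeroDivisors R) c
    refine ⟨b, nonZeroDivisors.coe_ne_zero b, ?_⟩
    have : (b : R) • algebraMap K Ω c = algebraMap R Ω a := by
      rw [Algebra.smul_def, IsScalarTower.algebraMap_apply R K Ω a, ← hab, map_mul, mul_comm,
        ← IsScalarTower.algebraMap_apply]
    rw [this]; exact hR a
  | add y z _ _ hy hz =>
    obtain ⟨r, hr, hy⟩ := hy
    obtain ⟨s, hs, hz⟩ := hz
    refine ⟨r * s, mul_ne_zero hr hs, ?_⟩
    have : (r * s) • (y + z) = algebraMap R Ω s * (r • y) + algebraMap R Ω r * (s • z) := by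
      simp only [Algebra.smul_def, map_mul]; ring
    rw [this]; exact add_mem (mul_mem (hR s) hy) (mul_mem (hR r) hz)
  | mul y z _ _ hy hz =>
    obtain ⟨r, hr, hy⟩ := hy
    obtain ⟨s, hs, hz⟩ := hz
    refine ⟨r * s, mul_ne_zero hr hs, ?_⟩
    have : (r * s) • (y * z) = (r • y) * (s • z) := by rw [smul_mul_smul_comm]
    rw [this]; exact mul_mem hy hz

variable [IsIntegrallyClosed R] [IsNoetherianRing R]

theorem integralClosure_finite [FiniteDimensional K Ω] [Algebra.IsSeparable K Ω] :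
    Module.Finite R ↥(integralClosure R Ω) :=
  IsIntegralClosure.finite R K Ω ↥(integralClosure R Ω)

variable [IsLocalRing R] [𝔪.IsMaximal] [IsLocalRing A]

/-- The completion of `A` is in the fraction field of the ring generated by the two completions. -/
theorem exists_quotient [FiniteDimensional K L] [FiniteDimensional K M] [FiniteDimensional K Ω]
    [Algebra.IsSeparable K Ω] (hA : IsLoc 𝔪 A)
    (hΩ : IntermediateField.adjoin K (Set.range (algebraMap L Ω) ∪ Set.range (algebraMap M Ω)) = ⊤)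
    {T : Type u} [CommRing T] [IsLocalRing T] [IsNoetherianRing T] (j : R →+* T) (f : T →+* A)
    (hj : f.comp j = algebraMap R A) [IsLocalHom f]
    (φ : AdicCompletion (maximalIdeal T) T →+* AdicCompletion (maximalIdeal A) A)
    (hφ : ∀ t, φ (algebraMap T _ t) = algebraMap A _ (f t))
    (C : Subring (AdicCompletion (maximalIdeal A) A)) (hC : ∀ c, φ c ∈ C)
    (hL : ∀ (l : L) (h : algebraMap L Ω l ∈ A), algebraMap A _ (⟨_, h⟩ : A) ∈ C)
    (hM : ∀ (m : M) (h : algebraMap M Ω m ∈ A), algebraMap A _ (⟨_, h⟩ : A) ∈ C)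
    (x : AdicCompletion (maximalIdeal A) A) :
    ∃ r : R, algebraMap A (AdicCompletion (maximalIdeal A) A) (algebraMap R A r) ≠ 0 ∧
      algebraMap A (AdicCompletion (maximalIdeal A) A) (algebraMap R A r) ∈ C ∧
      x * algebraMap A (AdicCompletion (maximalIdeal A) A) (algebraMap R A r) ∈ C := by
  classical
  haveI := integralClosure_finite (R := R) (K := K) (Ω := Ω)
  haveI : IsNoetherianRing ↥(integralClosure R Ω) := IsNoetherianRing.of_finite R _
  haveI := hA.isNoetherianRing
  obtain ⟨n, β, hβ⟩ := hA.exists_span j f hj φ hφ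
  obtain ⟨c, rfl⟩ := hβ x
  choose r hr0 hr using fun i => exists_mul_mem_gen hA hΩ ((β i : ↥(integralClosure R Ω)) : Ω)
  have hgen : ∀ z : Ω, z ∈ Subring.closure
      ((algebraMap L Ω '' (Subalgebra.comap (IsScalarTower.toAlgHom R L Ω) A : Set L)) ∪
       (algebraMap M Ω '' (Subalgebra.comap (IsScalarTower.toAlgHom R M Ω) A : Set M))) →
      ∃ h : z ∈ A, algebraMap A (AdicCompletion (maximalIdeal A) A) ⟨z, h⟩ ∈ C := by
    intro z hz
    induction hz using Subring.closure_induction with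
    | mem y hy =>
      rcases hy with ⟨l, hl, rfl⟩ | ⟨m, hm, rfl⟩
      · exact ⟨hl, hL l hl⟩
      · exact ⟨hm, hM m hm⟩
    | zero => exact ⟨zero_mem A, by rw [show (⟨0, zero_mem A⟩ : A) = 0 from rfl, map_zero]; exact zero_mem C⟩
    | one => exact ⟨one_mem A, by rw [show (⟨1, one_mem A⟩ : A) = 1 from rfl, map_one]; exact one_mem C⟩
    | add y w _ _ hy hw =>
      obtain ⟨h1, h1'⟩ := hy; obtain ⟨h2, h2'⟩ := hw
      exact ⟨add_mem h1 h2, by rw [show (⟨y + w, add_mem h1 h2⟩ : A) = ⟨y, h1⟩ + ⟨w, h2⟩ from rfl, map_add]; exact add_mem h1' h2'⟩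
    | neg y _ hy =>
      obtain ⟨h1, h1'⟩ := hy
      exact ⟨neg_mem h1, by rw [show (⟨-y, neg_mem h1⟩ : A) = -⟨y, h1⟩ from rfl, map_neg]; exact neg_mem h1'⟩
    | mul y w _ _ hy hw =>
      obtain ⟨h1, h1'⟩ := hy; obtain ⟨h2, h2'⟩ := hw
      exact ⟨mul_mem h1 h2, by rw [show (⟨y * w, mul_mem h1 h2⟩ : A) = ⟨y, h1⟩ * ⟨w, h2⟩ from rfl, map_mul]; exact mul_mem h1' h2'⟩
  have hR : ∀ s : R, algebraMap A (AdicCompletion (maximalIdeal A) A) (algebraMap R A s) ∈ C := fun s => by
    have h : algebraMap L Ω (algebraMap R L s) ∈ A := by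
      rw [← IsScalarTower.algebraMap_apply]; exact A.algebraMap_mem s
    rw [show algebraMap R A s = ⟨_, h⟩ from Subtype.ext (IsScalarTower.algebraMap_apply R L Ω s)]
    exact hL _ h
  have hi : ∀ i, algebraMap A (AdicCompletion (maximalIdeal A) A) (algebraMap R A (r i)) *
      algebraMap A _ (Subalgebra.inclusion hA.le (β i)) ∈ C := fun i => by
    obtain ⟨h, h'⟩ := hgen _ (hr i)
    rw [← map_mul]
    rwa [show algebraMap R A (r i) * Subalgebra.inclusion hA.le (β i) = ⟨_, h⟩ from
      Subtype.ext (Algebra.smul_def _ _).symm]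
  refine ⟨∏ i, r i, ?_, hR _, ?_⟩
  · have hinj : Function.Injective (algebraMap A (AdicCompletion (maximalIdeal A) A)) := by
      rw [injective_iff_map_eq_zero]
      intro a ha
      refine IsHausdorff.haus (I := maximalIdeal A) inferInstance a fun k => ?_
      rw [SModEq.zero, smul_eq_mul, Ideal.mul_top, ← DecompCplLib.algebraMap_mem_pow_iff, ha]
      exact zero_mem _
    rw [map_ne_zero_iff _ hinj, Ne, ← Subtype.coe_injective.eq_iff]
    intro h
    have h' : algebraMap R Ω (∏ i, r i) = 0 := h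
    rw [IsScalarTower.algebraMap_apply R K Ω, map_eq_zero,
      IsFractionRing.to_map_eq_zero_iff] at h'
    obtain ⟨i, -, hi0⟩ := Finset.prod_eq_zero_iff.1 h'
    exact hr0 i hi0
  · rw [Finset.sum_mul]
    refine sum_mem fun i _ => ?_
    rw [map_prod, map_prod, ← Finset.mul_prod_erase _ _ (Finset.mem_univ i)]
    have e : ∀ a b c d : AdicCompletion (maximalIdeal A) A, a * b * (c * d) = a * d * (c * b) := fun a b c d => by ring
    rw [e]
    exact mul_mem (mul_mem (hC _) (prod_mem fun l _ => hR _)) (hi i)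

end Groth.Agent.CompositumCplLib
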