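import Groth.Agent.CompositumCplLib.Comap
import Groth.Agent.RatliffLib.UnivCat
import Groth.Agent.NormalTensor.Hom
import Groth.Agent.NormalTensor.Finite
import Groth.Agent.PurityLib.Regular
import Groth.Agent.GRingCompleteLib.Descend
import Groth.Agent.ExcLib.Localization
import Groth.Agent.RegLocal.Completion

set_option autoImplicit false
universe u

namespace Groth.Agent.CompositumCplLib

open IsLocalRing

/-- Completions of local rings of normal G-rings are normal domains. -/
theorem normal_completion_of_gring (B : Type u) [CommRing B] [IsNoetherianRing B] [IsDomain B] [IsIntegrallyClosed B]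
    (hB : CAlg.IsGRing B) (q : Ideal B) [q.IsPrime] :
    IsDomain (EGA4.Cpl (Localization.AtPrime q)) ∧ IsIntegrallyClosed (EGA4.Cpl (Localization.AtPrime q)) := by
  let L := Localization.AtPrime q
  haveI : IsNoetherianRing L := IsLocalization.isNoetherianRing q.primeCompl _ inferInstance
  haveI : IsIntegrallyClosed L :=
    isIntegrallyClosed_of_isLocalization L q.primeCompl q.primeCompl_le_nonZeroDivisors
  obtain ⟨_, hnoe, _, _, _⟩ := RatliffLib.compl_facts L
  haveI := hnoe
  have hL : EGA4.IsNormalRing L := fun p _ => by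
    haveI := IsLocalization.isDomain_localization (p.primeCompl_le_nonZeroDivisors : _ ≤ nonZeroDivisors L)
    exact ⟨inferInstance, isIntegrallyClosed_of_isLocalization _ p.primeCompl p.primeCompl_le_nonZeroDivisors⟩
  have h2 : CAlg.IsRegularHom L (EGA4.Cpl L) := hB.2 q
  have hR : ∀ (R : Type u) [CommRing R], IsRegularRing R → EGA4.IsNormalRing R := fun R _ hR p _ => by
    haveI := hR.isRegularLocalRing_localization p
    exact PurityLib.isIntegrallyClosed_of_regular (Localization.AtPrime p)
  have hh : EGA4.IsNormalHom L (EGA4.Cpl L) := ⟨h2.1, fun p _ k' _ _ hfin => hR _ ((h2.2 p).2 k' hfin)⟩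
  have hN : EGA4.IsNormalRing (EGA4.Cpl L) :=
    NormalTensor.isNormalRing_of_ringEquiv (Algebra.TensorProduct.rid L L (EGA4.Cpl L)).toRingEquiv
      (NormalTensor.isNormalRing_tensor_of_fieldNormal L (EGA4.Cpl L) (NormalTensor.fieldNormal_of_isNormalHom hh) L hL)
  haveI : IsDomain (EGA4.Cpl L) := by
    let P := maximalIdeal (EGA4.Cpl L)
    haveI := (hN P).1
    haveI : IsLocalization P.primeCompl (EGA4.Cpl L) := IsLocalization.self fun x hx => notMem_maximalIdeal.mp hx
    exact (IsLocalization.algEquiv P.primeCompl (EGA4.Cpl L) (Localization.AtPrime P)).toRingEquiv.injective.isDomain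
  exact ⟨inferInstance, NormalTensor.isIntegrallyClosed_of_isNormalRing hN⟩

/-- The completion of a normal local G-ring is a normal domain. -/
theorem normal_cpl (D : Type u) [CommRing D] [IsLocalRing D] [IsNoetherianRing D] [IsDomain D] [IsIntegrallyClosed D]
    (hD : CAlg.IsGRing D) :
    IsDomain (AdicCompletion (maximalIdeal D) D) ∧ IsIntegrallyClosed (AdicCompletion (maximalIdeal D) D) := by
  obtain ⟨h1, h2⟩ := normal_completion_of_gring D hD (maximalIdeal D)
  haveI : IsLocalization (maximalIdeal D).primeCompl D :=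
    IsLocalization.self fun x hx => notMem_maximalIdeal.1 hx
  let e : Localization.AtPrime (maximalIdeal D) ≃+* D :=
    (IsLocalization.algEquiv (maximalIdeal D).primeCompl (Localization.AtPrime (maximalIdeal D)) D).toRingEquiv
  let E := Groth.Agent.ExcLib.complEquiv e (maximalIdeal (Localization.AtPrime (maximalIdeal D))) (maximalIdeal D)
    (IsLocalRing.eq_maximalIdeal (Ideal.map_isMaximal_of_equiv e))
  haveI := h1
  haveI := h2
  exact ⟨E.symm.injective.isDomain, IsIntegrallyClosed.of_equiv E⟩

variable {R Ω : Type u} [CommRing R] [Field Ω] [Algebra R Ω]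
  {𝔪 : Ideal ↥(integralClosure R Ω)} [𝔪.IsPrime] {A : Subalgebra R Ω}

theorem IsLoc.normal_gring [IsDomain R] [IsNoetherianRing R] [IsLocalRing A]
    (hA : IsLoc 𝔪 A) (hG : CAlg.IsGRing R) [Module.Finite R ↥(integralClosure R Ω)]
    [IsIntegrallyClosed ↥(integralClosure R Ω)] :
    IsNoetherianRing A ∧ IsIntegrallyClosed A ∧ CAlg.IsGRing A := by
  haveI : IsNoetherianRing ↥(integralClosure R Ω) := IsNoetherianRing.of_finite R _
  letI := (Subalgebra.inclusion hA.le).toRingHom.toAlgebra
  haveI := hA.isLocalization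
  exact ⟨hA.isNoetherianRing,
    isIntegrallyClosed_of_isLocalization A 𝔪.primeCompl 𝔪.primeCompl_le_nonZeroDivisors,
    Groth.Agent.ExcLib.isGRing_of_isLocalization 𝔪.primeCompl
      (Groth.Agent.GRingCompleteLib.isGRing_of_finiteType R hG ↥(integralClosure R Ω))⟩

theorem IsLoc.ringKrullDim_eq [IsLocalRing A] (hA : IsLoc 𝔪 A) : ringKrullDim A = 𝔪.height := by
  letI := (Subalgebra.inclusion hA.le).toRingHom.toAlgebra
  haveI := hA.isLocalization
  exact IsLocalization.AtPrime.ringKrullDim_eq_height 𝔪 A

theorem ringKrullDim_le_of_integral {P B : Type*} [CommRing P] [CommRing B] [Algebra P B]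
    [Algebra.IsIntegral P B] : ringKrullDim B ≤ ringKrullDim P := by
  refine Order.krullDim_le_of_strictMono (fun p : PrimeSpectrum B => PrimeSpectrum.comap (algebraMap P B) p)
    fun p q hpq => ?_
  obtain ⟨x, hxq, hxp⟩ := SetLike.exists_of_lt (show p.asIdeal < q.asIdeal from hpq)
  exact Ideal.comap_lt_comap_of_integral_mem_sdiff hpq.le ⟨hxq, hxp⟩ (Algebra.IsIntegral.isIntegral x)

/-- A finite map of local domains of full dimension is injective. -/
theorem injective_of_finite_dim {T A : Type u} [CommRing T] [IsDomain T] [CommRing A] [Algebra T A]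
    [Module.Finite T A] [IsNoetherianRing T] [IsLocalRing T] (h : ringKrullDim T ≤ ringKrullDim A) :
    Function.Injective (algebraMap T A) := by
  rw [injective_iff_map_eq_zero]
  by_contra hne
  push Not at hne
  obtain ⟨r, hr, hr0⟩ := hne
  letI : Algebra (T ⧸ Ideal.span {r}) A := (Ideal.Quotient.lift (Ideal.span {r}) (algebraMap T A)
    (fun x hx => by obtain ⟨y, rfl⟩ := Ideal.mem_span_singleton.1 hx; rw [map_mul, hr, zero_mul])).toAlgebra
  haveI : IsScalarTower T (T ⧸ Ideal.span {r}) A := .of_algebraMap_eq fun _ => rfl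
  haveI : Module.Finite (T ⧸ Ideal.span {r}) A := Module.Finite.of_restrictScalars_finite T _ _
  have h1 := ringKrullDim_quotient_succ_le_of_nonZeroDivisor (mem_nonZeroDivisors_of_ne_zero hr0)
  have h2 := h.trans (ringKrullDim_le_of_integral (P := T ⧸ Ideal.span {r}) (B := A))
  have h3 := (add_le_add h2 (le_refl (1 : WithBot ℕ∞))).trans h1
  obtain ⟨n, hn⟩ : ∃ n : ℕ, ringKrullDim T = n := by
    obtain ⟨n, hn⟩ := ENat.ne_top_iff_exists.1 (Ideal.height_ne_top (maximalIdeal.isMaximal T).ne_top)
    exact ⟨n, by rw [← IsLocalRing.maximalIdeal_height_eq_ringKrullDim, ← hn]; rfl⟩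
  rw [hn] at h3
  norm_cast at h3
  omega

/-- The subring of fractions in a domain. -/
def fracRange {T A : Type u} [CommRing T] [CommRing A] [IsDomain A] (φ : T →+* A) : Subring A where
  carrier := {q | ∃ a b : T, φ b ≠ 0 ∧ q * φ b = φ a}
  zero_mem' := ⟨0, 1, by simp, by simp⟩
  one_mem' := ⟨1, 1, by simp, by simp⟩
  add_mem' := by
    rintro p q ⟨a, b, hb, h⟩ ⟨c, d, hd, h'⟩
    exact ⟨a * d + c * b, b * d, by simp [hb, hd], by simp only [map_mul, map_add, ← h, ← h']; ring⟩
  mul_mem' := by
    rintro p q ⟨a, b, hb, h⟩ ⟨c, d, hd, h'⟩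
    exact ⟨a * c, b * d, by simp [hb, hd], by simp only [map_mul, ← h, ← h']; ring⟩
  neg_mem' := by
    rintro p ⟨a, b, hb, h⟩
    exact ⟨-a, b, hb, by simp only [map_neg, ← h]; ring⟩

theorem range_le_fracRange {T A : Type u} [CommRing T] [CommRing A] [IsDomain A] (φ : T →+* A) (t : T) :
    φ t ∈ fracRange φ := ⟨t, 1, by simp, by simp⟩

/-- A finite injective birational map to a domain from a normal domain is surjective. -/
theorem surjective_of_birational {T A : Type u} [CommRing T] [IsDomain T] [IsIntegrallyClosed T] [CommRing A]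
    [IsDomain A] [Algebra T A] [Algebra.IsIntegral T A] (hinj : Function.Injective (algebraMap T A))
    (h : ∀ x : A, ∃ a b : T, algebraMap T A b ≠ 0 ∧ x * algebraMap T A b = algebraMap T A a) :
    Function.Surjective (algebraMap T A) := by
  intro x
  obtain ⟨a, b, hb, hx⟩ := h x
  haveI : FaithfulSMul T A := (faithfulSMul_iff_algebraMap_injective T A).2 hinj
  letI := FractionRing.liftAlgebra T (FractionRing A)
  let q : FractionRing T := algebraMap T _ a / algebraMap T _ b
  have hb' : algebraMap T (FractionRing T) b ≠ 0 :=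
    (map_ne_zero_iff _ (IsFractionRing.injective T _)).2 fun h => hb (by rw [h, map_zero])
  have hq : algebraMap (FractionRing T) (FractionRing A) q = algebraMap A (FractionRing A) x := by
    rw [map_div₀, ← IsScalarTower.algebraMap_apply, ← IsScalarTower.algebraMap_apply,
      IsScalarTower.algebraMap_apply T A (FractionRing A), IsScalarTower.algebraMap_apply T A (FractionRing A) b,
      ← hx, map_mul, mul_div_assoc, div_self, mul_one]
    exact (map_ne_zero_iff _ (IsFractionRing.injective A _)).2 hb
  have hint : IsIntegral T q := by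
    rw [← isIntegral_algHom_iff (IsScalarTower.toAlgHom T (FractionRing T) (FractionRing A))
      (algebraMap (FractionRing T) (FractionRing A)).injective, IsScalarTower.coe_toAlgHom', hq]
    exact (Algebra.IsIntegral.isIntegral (R := T) x).map (IsScalarTower.toAlgHom T A (FractionRing A))
  obtain ⟨t, ht⟩ := IsIntegrallyClosed.algebraMap_eq_of_integral hint
  refine ⟨t, IsFractionRing.injective A (FractionRing A) ?_⟩
  rw [← hq, ← ht, ← IsScalarTower.algebraMap_apply, ← IsScalarTower.algebraMap_apply]

theorem IsLoc.main [IsDomain R] [IsNoetherianRing R] [IsLocalRing R] [IsLocalRing A] [𝔪.IsMaximal]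
    (hA : IsLoc 𝔪 A) [Module.Finite R ↥(integralClosure R Ω)] [IsNoetherianRing A]
    {T : Type u} [CommRing T] [IsLocalRing T] [IsNoetherianRing T] (j : R →+* T) (f : T →+* A)
    (hj : f.comp j = algebraMap R A) [IsLocalHom f]
    [IsDomain (AdicCompletion (maximalIdeal T) T)] [IsIntegrallyClosed (AdicCompletion (maximalIdeal T) T)]
    [IsDomain (AdicCompletion (maximalIdeal A) A)]
    (hdim : ringKrullDim T ≤ ringKrullDim A)
    (φ : AdicCompletion (maximalIdeal T) T →+* AdicCompletion (maximalIdeal A) A)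
    (hφ : ∀ t, φ (algebraMap T _ t) = algebraMap A _ (f t))
    (hfrac : ∀ x, ∃ a b, φ b ≠ 0 ∧ x * φ b = φ a) :
    (maximalIdeal T).map f = maximalIdeal A ∧ ∀ a : A, ∃ t : T, a - f t ∈ maximalIdeal A := by
  classical
  obtain ⟨n, β, hβ⟩ := hA.exists_span j f hj φ hφ
  letI : Algebra (AdicCompletion (maximalIdeal T) T) (AdicCompletion (maximalIdeal A) A) := φ.toAlgebra
  haveI : Module.Finite (AdicCompletion (maximalIdeal T) T) (AdicCompletion (maximalIdeal A) A) := by
    refine ⟨⟨Finset.univ.image (fun i => algebraMap A _ (Subalgebra.inclusion hA.le (β i))), ?_⟩⟩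
    rw [Finset.coe_image, Finset.coe_univ, Set.image_univ, eq_top_iff]
    intro x _
    obtain ⟨c, rfl⟩ := hβ x
    exact (Submodule.mem_span_range_iff_exists_fun _).2 ⟨c, rfl⟩
  have hinj : Function.Injective φ := injective_of_finite_dim (T := AdicCompletion (maximalIdeal T) T)
    (by rw [Groth.Agent.RegLocal.ringKrullDim_completion T _ (maximalIdeal.isMaximal T).ne_top,
      Groth.Agent.RegLocal.ringKrullDim_completion A _ (maximalIdeal.isMaximal A).ne_top]; exact hdim)
  have hsurj : Function.Surjective φ := surjective_of_birational hinj hfrac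
  have hmap : (maximalIdeal (AdicCompletion (maximalIdeal T) T)).map φ =
      maximalIdeal (AdicCompletion (maximalIdeal A) A) :=
    IsLocalRing.eq_maximalIdeal (Ideal.map_isMaximal_of_equiv (RingEquiv.ofBijective φ ⟨hinj, hsurj⟩))
  have key : ∀ k (a : A), ∃ t : T, a - f t ∈ maximalIdeal A ^ k := by
    intro k a
    obtain ⟨c, hc⟩ := hsurj (algebraMap A _ a)
    obtain ⟨t, ht⟩ := DecompCplLib.exists_approx k c
    refine ⟨t, (DecompCplLib.algebraMap_mem_pow_iff k _).1 ?_⟩
    have := Ideal.mem_map_of_mem φ ht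
    rw [Ideal.map_pow, hmap, map_sub, hc, hφ] at this
    rwa [map_sub]
  refine ⟨le_antisymm (Ideal.map_le_iff_le_comap.2 fun t ht => map_nonunit f t ht) fun a ha => ?_, fun a => ?_⟩
  · obtain ⟨k, hk⟩ := hA.exists_pow_le (R := R)
    have hk' : maximalIdeal A ^ (k + 1) ≤ (maximalIdeal T).map f := by
      refine (Ideal.pow_le_pow_right (Nat.le_succ k)).trans (hk.trans ?_)
      rw [← hj, ← Ideal.map_map]
      refine Ideal.map_mono (Ideal.map_le_iff_le_comap.2 fun r hr => ?_)
      refine (mem_maximalIdeal _).2 fun hu => (mem_maximalIdeal _).1 (hA.algebraMap_mem hr) ?_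
      rw [← hj]; exact hu.map f
    obtain ⟨t, ht⟩ := key (k + 1) a
    have htm : f t ∈ maximalIdeal A := by
      have := sub_mem ha (Ideal.pow_le_self (Nat.succ_ne_zero k) ht)
      rwa [sub_sub_cancel] at this
    have : t ∈ maximalIdeal T := (mem_maximalIdeal _).2 fun hu => (mem_maximalIdeal _).1 htm (hu.map f)
    have := add_mem (hk' ht) (Ideal.mem_map_of_mem f this)
    rwa [sub_add_cancel] at this
  · obtain ⟨t, ht⟩ := key 1 a
    exact ⟨t, by rwa [pow_one] at ht⟩

end Groth.Agent.CompositumCplLib
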